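import Cfsg.Agent.H478.RadTools_m3
import Cfsg.Agent.H149.Sp.Quot
import Cfsg.Agent.H123.SporSimple
import Cfsg.Agent.H783.PglSpor
import Cfsg.Agent.H516.GoodSpor
import Cfsg.Agent.Prune
set_option linter.all false
prune_inst 0x7f00000000000000000000000000000000000000000000000000000000000000000000000000000000000000000000000000000000000000000000000000000000000000000000000000000000000000003fffffffffffffffffffffffffffbeffbdffffffff
open scoped Cfsg.Agent.FastGrp

/-!
# S4324, sporadic rows: `NCs` of a sporadic group from `NI`, `NO` (helper209)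

* `spor_center`, `spor_na`, `tits_simple`, `tits_center` : center, non-commutativity;
* `out_two` : an outer automorphism of prime order of a sporadic group (or of the Tits group) has order 2;
* `inner_X` : the automorphisms are inner (X = M11, M23, M24, J1, J4, Co1, Co2, Co3, Ly, Ru, Fi23, Th, B, M);
* `ncs_of_spor` : the row from `NI s p K` and `NO s K`; `no_of_inner`.

Orders: `Cfsg.Agent.NotCT.Orders.x`.
-/

set_option autoImplicit false

namespace Cfsg.Agent.H209.PiSpor

open Subgroup Cfsg Cfsg.Agent.H216.Pi

section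

variable {K : Type*} [Group K]

theorem center_of_simple [IsSimpleGroup K] (hna : ¬ IsMulCommutative K) : center K = ⊥ := by
  rcases (inferInstance : (center K).Normal).eq_bot_or_eq_top with h | h
  · exact h
  · exfalso
    apply hna
    refine ⟨⟨fun a b => ?_⟩⟩
    have h1 : b ∈ center K := by rw [h]; exact mem_top b
    exact mem_center_iff.1 h1 a

/-- outer automorphisms of prime order are involutions if `|Out K| ∣ 2` -/
theorem out_two (hi : (MulAut.conj : K →* MulAut K).range.index ∣ 2) {x : MulAut K} (hx : (orderOf x).Prime)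
    (hxo : x ∉ (MulAut.conj : K →* MulAut K).range) : orderOf x = 2 := by
  have hn : (MulAut.conj : K →* MulAut K).range.Normal := by
    refine ⟨?_⟩
    rintro _ ⟨g, rfl⟩ a
    refine ⟨a g, ?_⟩
    ext b
    simp [MulAut.conj_apply]
  have h2 : x ^ 2 ∈ (MulAut.conj : K →* MulAut K).range := by
    obtain ⟨c, hc⟩ := hi
    rw [hc, pow_mul]
    exact pow_mem (Subgroup.pow_index_mem _ x) c
  by_contra hne
  apply hxo
  have hodd : Nat.Coprime (orderOf x) 2 := (Nat.coprime_primes hx Nat.prime_two).2 hne
  obtain ⟨j, hj⟩ := exists_pow_eq_self_of_coprime hodd.symm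
  rw [← hj]
  exact pow_mem h2 j

theorem range_eq_top_of (h : Nat.card (Cfsg.Out K) = 1) : (MulAut.conj : K →* MulAut K).range = ⊤ :=
  Subgroup.index_eq_one.1 h

theorem inner_congr {L : Type*} [Group L] (e : K ≃* L) (h : (MulAut.conj : L →* MulAut L).range = ⊤) (x : MulAut K) :
    x ∈ (MulAut.conj : K →* MulAut K).range := by
  have h1 : (MulAut.conj : K →* MulAut K).range = ⊤ := by
    rw [← Subgroup.index_eq_one, H498.SporOut.index_congr e, h, Subgroup.index_top]
  rw [h1]
  exact mem_top x

theorem no_of_inner {s : ℕ} (h : ∀ x : MulAut K, x ∈ (MulAut.conj : K →* MulAut K).range) : NO s K :=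
  fun x _ hx => (hx (h x)).elim

end

section

universe u

variable {K : Type u} [Group K]

theorem index_dvd_two (h : IsSporadicGroup K ∨ Lie.IsoTits K) [Finite K] :
    (MulAut.conj : K →* MulAut K).range.index ∣ 2 := by
  rcases h with h | h
  · exact H783.PglSpor.index_spor h
  · exact H783.PglSpor.index_tits h

/-- **the row of a sporadic group or the Tits group** -/
theorem ncs_of_spor [Finite K] (h : IsSporadicGroup K ∨ Lie.IsoTits K) {s : ℕ}
    (hI : ∀ p, p.Prime → p ≠ s → NI s p K) (hO : NO s K) : NCs s K := by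
  have hsi := H516.simple_of_spor h
  have hna := H516.not_comm_of_spor h
  exact ncs_of (center_of_simple hna) hI (fun x hx hxo => out_two (index_dvd_two h) hx hxo) hO

theorem inner_M11 (h : Spor.IsoM11 K) (x : MulAut K) : x ∈ (MulAut.conj : K →* MulAut K).range := by
  obtain ⟨e⟩ := h
  exact inner_congr e (range_eq_top_of S2060.result) x

theorem inner_M23 (h : Spor.IsoM23 K) (x : MulAut K) : x ∈ (MulAut.conj : K →* MulAut K).range := by
  obtain ⟨e⟩ := h
  exact inner_congr e (range_eq_top_of S2063.result) x

theorem inner_M24 (h : Spor.IsoM24 K) (x : MulAut K) : x ∈ (MulAut.conj : K →* MulAut K).range := by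
  obtain ⟨e⟩ := h
  exact inner_congr e (range_eq_top_of S2064.result) x

theorem inner_J1 (h : Spor.IsoJ1 K) (x : MulAut K) : x ∈ (MulAut.conj : K →* MulAut K).range := by
  obtain ⟨e⟩ := h
  exact inner_congr e (range_eq_top_of S2065.result) x

theorem inner_J4 (h : Spor.IsoJ4 K) (x : MulAut K) : x ∈ (MulAut.conj : K →* MulAut K).range := by
  obtain ⟨e⟩ := h
  exact inner_congr e (range_eq_top_of S2068.result) x

theorem inner_Co1 (h : Spor.IsoCo1 K) (x : MulAut K) : x ∈ (MulAut.conj : K →* MulAut K).range := by
  obtain ⟨e⟩ := h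
  exact inner_congr e (range_eq_top_of S2069.result) x

theorem inner_Co2 (h : Spor.IsoCo2 K) (x : MulAut K) : x ∈ (MulAut.conj : K →* MulAut K).range := by
  obtain ⟨e⟩ := h
  exact inner_congr e (range_eq_top_of S2070.result) x

theorem inner_Co3 (h : Spor.IsoCo3 K) (x : MulAut K) : x ∈ (MulAut.conj : K →* MulAut K).range := by
  obtain ⟨e⟩ := h
  exact inner_congr e (range_eq_top_of S2071.result) x

theorem inner_Ly (h : Spor.IsoLy K) (x : MulAut K) : x ∈ (MulAut.conj : K →* MulAut K).range := by
  obtain ⟨e⟩ := h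
  exact inner_congr e (range_eq_top_of S2076.result) x

theorem inner_Ru (h : Spor.IsoRu K) (x : MulAut K) : x ∈ (MulAut.conj : K →* MulAut K).range := by
  obtain ⟨e⟩ := h
  exact inner_congr e (range_eq_top_of S2077.result) x

theorem inner_Fi23 (h : Spor.IsoFi23 K) (x : MulAut K) : x ∈ (MulAut.conj : K →* MulAut K).range := by
  obtain ⟨e⟩ := h
  exact inner_congr e (range_eq_top_of S2080.result) x

theorem inner_Th (h : Spor.IsoTh K) (x : MulAut K) : x ∈ (MulAut.conj : K →* MulAut K).range := by
  obtain ⟨e⟩ := h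
  exact inner_congr e (range_eq_top_of S2083.result) x

theorem inner_B (h : Spor.IsoB K) (x : MulAut K) : x ∈ (MulAut.conj : K →* MulAut K).range := by
  obtain ⟨e⟩ := h
  exact inner_congr e (range_eq_top_of S2084.result) x

theorem inner_M (h : Spor.IsoM K) (x : MulAut K) : x ∈ (MulAut.conj : K →* MulAut K).range := by
  obtain ⟨e⟩ := h
  exact inner_congr e (range_eq_top_of S2085.result) x

end

end Cfsg.Agent.H209.PiSpor
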